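import Groth.Prelude.Def_W4c2quivmodsheafKron
import Mathlib.LinearAlgebra.Dual.Lemmas
import Mathlib.LinearAlgebra.FiniteDimensional.Lemmas
import Mathlib.LinearAlgebra.Dimension.Constructions
import Mathlib.LinearAlgebra.StdBasis

/-! Basic facts on semistable Kronecker modules. -/

namespace Groth.Agent.Kron

open Module

variable {K : Type*} [Field K] {V W : Type*} [AddCommGroup V] [Module K V] [FiniteDimensional K V]
  [AddCommGroup W] [Module K W] [FiniteDimensional K W] {n : ℕ} {f : Fin n → (V →ₗ[K] W)}

omit [FiniteDimensional K V] [FiniteDimensional K W] in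
/-- The inequality may be tested on all subrepresentations. -/
theorem isSemistable_iff :
    KronMod.IsSemistable f ↔ 0 < finrank K V + finrank K W ∧
      ∀ (V' : Submodule K V) (W' : Submodule K W), KronMod.IsSubrep f V' W' →
        finrank K W * finrank K V' ≤ finrank K V * finrank K W' := by
  refine ⟨fun h => ⟨h.1, fun V' W' hs => ?_⟩, fun h => ⟨h.1, fun V' W' hs _ _ => h.2 V' W' hs⟩⟩
  by_cases h0 : V' = ⊥ ∧ W' = ⊥
  · rw [h0.1, h0.2]; simp
  by_cases h1 : V' = ⊤ ∧ W' = ⊤
  · rw [h1.1, h1.2, finrank_top, finrank_top, mul_comm]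
  exact h.2 V' W' hs h0 h1

/-- All arrows as one map out of `n` copies of the source. -/
def out (f : Fin n → (V →ₗ[K] W)) : (Fin n → V) →ₗ[K] W := ∑ j, f j ∘ₗ LinearMap.proj j

omit [FiniteDimensional K V] [FiniteDimensional K W] in
theorem out_apply (v : Fin n → V) : out f v = ∑ j, f j (v j) := by simp [out]

omit [FiniteDimensional K V] [FiniteDimensional K W] in
theorem out_single (j : Fin n) (x : V) : out f (Pi.single j x) = f j x := by
  rw [out_apply, Finset.sum_eq_single j]
  · rw [Pi.single_eq_same]
  · intro i _ hi; rw [Pi.single_eq_of_ne hi, map_zero]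
  · simp

/-- All arrows as one map into `n` copies of the target. -/
def into (f : Fin n → (V →ₗ[K] W)) : V →ₗ[K] (Fin n → W) := LinearMap.pi f

omit [FiniteDimensional K W] in
theorem finrank_pi_copy : finrank K (Fin n → V) = n * finrank K V := by
  rw [Module.finrank_pi_fintype]; simp

/-- The smallest target subspace making a subrepresentation. -/
def img (f : Fin n → (V →ₗ[K] W)) (V' : Submodule K V) : Submodule K W :=
  LinearMap.range (out fun j => f j ∘ₗ V'.subtype)

omit [FiniteDimensional K V] [FiniteDimensional K W] in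
theorem isSubrep_img (V' : Submodule K V) : KronMod.IsSubrep f V' (img f V') := by
  rintro j _ ⟨x, hx, rfl⟩
  exact ⟨Pi.single j ⟨x, hx⟩, by rw [out_single]; rfl⟩

theorem finrank_img_le (V' : Submodule K V) : finrank K (img f V') ≤ n * finrank K V' :=
  ((out fun j => f j ∘ₗ V'.subtype).finrank_range_le).trans finrank_pi_copy.le

omit [FiniteDimensional K V] [FiniteDimensional K W] in
theorem img_le_of_isSubrep {V' : Submodule K V} {W' : Submodule K W} (h : KronMod.IsSubrep f V' W') :
    img f V' ≤ W' := by
  rintro _ ⟨v, rfl⟩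
  rw [out_apply]
  exact W'.sum_mem fun j _ => h j ⟨v j, (v j).2, rfl⟩

theorem finrank_img_of_injective (V' : Submodule K V) (hinj : Function.Injective (out f)) :
    finrank K (img f V') = n * finrank K V' := by
  rw [img, LinearMap.finrank_range_of_inj, finrank_pi_copy]
  intro a b hab
  have : (fun j => ((a j : V'))) = b := by
    funext j
    have := congrFun (hinj (a₁ := fun j => (a j : V)) (a₂ := fun j => (b j : V)) ?_) j
    · exact Subtype.ext this
    · simpa [out_apply] using hab
  exact this

theorem semistable_iff_out (hV : 0 < finrank K V) (hW : finrank K W = n * finrank K V) :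
    KronMod.IsSemistable f ↔ Function.Bijective (out f) := by
  have hd : finrank K (Fin n → V) = finrank K W := by rw [finrank_pi_copy, hW]
  rw [isSemistable_iff]
  constructor
  · rintro ⟨-, h⟩
    have hs := h ⊤ (LinearMap.range (out f)) fun j => by
      rintro _ ⟨x, -, rfl⟩
      exact ⟨Pi.single j x, out_single j x⟩
    rw [finrank_top, mul_comm] at hs
    have h1 : finrank K W ≤ finrank K (LinearMap.range (out f)) := Nat.le_of_mul_le_mul_left hs hV
    have hr : LinearMap.range (out f) = ⊤ :=
      Submodule.eq_top_of_finrank_eq (le_antisymm (Submodule.finrank_le _) h1)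
    have hsurj := LinearMap.range_eq_top.1 hr
    exact ⟨(LinearMap.injective_iff_surjective_of_finrank_eq_finrank hd).2 hsurj, hsurj⟩
  · intro hb
    refine ⟨by omega, fun V' W' hs => ?_⟩
    have h1 := Submodule.finrank_mono (img_le_of_isSubrep hs)
    rw [finrank_img_of_injective V' hb.1] at h1
    calc finrank K W * finrank K V' = finrank K V * (n * finrank K V') := by rw [hW]; ring
      _ ≤ finrank K V * finrank K W' := Nat.mul_le_mul_left _ h1

theorem le_of_into_injective (hinj : Function.Injective (into f)) {V' : Submodule K V} {W' : Submodule K W}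
    (hs : KronMod.IsSubrep f V' W') : finrank K V' ≤ n * finrank K W' := by
  rw [← finrank_pi_copy (V := W') (n := n) (K := K)]
  refine LinearMap.finrank_le_finrank_of_injective
    (f := LinearMap.pi fun j => (f j ∘ₗ V'.subtype).codRestrict W' fun x => hs j ⟨x, x.2, rfl⟩) ?_
  intro a b hab
  refine Subtype.ext (hinj (funext fun j => ?_))
  exact congrArg Subtype.val (congrFun hab j)

theorem semistable_iff_into (hW : 0 < finrank K W) (hV : finrank K V = n * finrank K W) :
    KronMod.IsSemistable f ↔ Function.Bijective (into f) := by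
  have hd : finrank K V = finrank K (Fin n → W) := by rw [finrank_pi_copy, hV]
  rw [isSemistable_iff]
  constructor
  · rintro ⟨-, h⟩
    have hs := h (LinearMap.ker (into f)) ⊥ fun j => by
      rintro _ ⟨x, hx, rfl⟩
      exact (Submodule.mem_bot K).2 (congrFun (LinearMap.mem_ker.1 hx) j)
    rw [finrank_bot, mul_zero, Nat.le_zero, Nat.mul_eq_zero] at hs
    have hk : LinearMap.ker (into f) = ⊥ := Submodule.finrank_eq_zero.1 (hs.resolve_left (by omega))
    have hinj := LinearMap.ker_eq_bot.1 hk
    exact ⟨hinj, (LinearMap.injective_iff_surjective_of_finrank_eq_finrank hd).1 hinj⟩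
  · intro hb
    refine ⟨by omega, fun V' W' hs => ?_⟩
    calc finrank K W * finrank K V' ≤ finrank K W * (n * finrank K W') :=
          Nat.mul_le_mul_left _ (le_of_into_injective hb.1 hs)
      _ = finrank K V * finrank K W' := by rw [hV]; ring

omit [FiniteDimensional K V] [FiniteDimensional K W] in
theorem isSemistable_of_isStable (h : KronMod.IsStable f) : KronMod.IsSemistable f :=
  ⟨h.1, fun V' W' hs h0 h1 => (h.2 V' W' hs h0 h1).le⟩

theorem exists_line (h : 0 < finrank K V) : ∃ L : Submodule K V, finrank K L = 1 := by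
  obtain ⟨x, hx⟩ := (Module.finrank_pos_iff_exists_ne_zero).1 h
  exact ⟨K ∙ x, finrank_span_singleton hx⟩

theorem eq_bot_or_top_of_finrank_one (h : finrank K V = 1) (L : Submodule K V) : L = ⊥ ∨ L = ⊤ := by
  have := Submodule.finrank_le L
  rcases (by omega : finrank K L = 0 ∨ finrank K L = finrank K V) with h' | h'
  · exact Or.inl (Submodule.finrank_eq_zero.1 h')
  · exact Or.inr (Submodule.eq_top_of_finrank_eq h')

theorem stable_iff_out (hV : 0 < finrank K V) (hW : finrank K W = n * finrank K V) :
    KronMod.IsStable f ↔ KronMod.IsSemistable f ∧ finrank K V = 1 := by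
  constructor
  · intro h
    refine ⟨isSemistable_of_isStable h, ?_⟩
    by_contra hne
    obtain ⟨L, hL⟩ := exists_line hV
    have := h.2 L (img f L) (isSubrep_img L) (fun hc => by rw [hc.1, finrank_bot] at hL; omega)
      (fun hc => by rw [hc.1, finrank_top] at hL; exact hne hL)
    have h1 := finrank_img_le (f := f) L
    rw [hL, mul_one] at h1
    rw [hL, mul_one, hW, mul_comm] at this
    exact absurd (Nat.lt_of_mul_lt_mul_left this) (by omega)
  · rintro ⟨hs, h1⟩
    have hb := (semistable_iff_out hV hW).1 hs
    refine ⟨hs.1, fun V' W' hsub h0 htop => ?_⟩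
    rcases eq_bot_or_top_of_finrank_one h1 V' with rfl | rfl
    · have : W' ≠ ⊥ := fun hc => h0 ⟨rfl, hc⟩
      rw [finrank_bot, h1, mul_zero, one_mul]
      exact Nat.pos_of_ne_zero fun hc => this (Submodule.finrank_eq_zero.1 hc)
    · refine absurd ⟨rfl, top_le_iff.1 fun w _ => ?_⟩ htop
      obtain ⟨v, rfl⟩ := hb.2 w
      rw [out_apply]
      exact W'.sum_mem fun j _ => hsub j ⟨v j, Submodule.mem_top, rfl⟩

theorem stable_iff_into (hW : 0 < finrank K W) (hV : finrank K V = n * finrank K W) :
    KronMod.IsStable f ↔ KronMod.IsSemistable f ∧ finrank K W = 1 := by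
  constructor
  · intro h
    refine ⟨isSemistable_of_isStable h, ?_⟩
    have hb := (semistable_iff_into hW hV).1 (isSemistable_of_isStable h)
    by_contra hne
    obtain ⟨L, hL⟩ := exists_line hW
    let V' := (Submodule.pi Set.univ (fun _ : Fin n => L)).comap (into f)
    have hsub : KronMod.IsSubrep f V' L := by
      rintro j _ ⟨x, hx, rfl⟩
      exact hx j trivial
    have hdim : n ≤ finrank K V' := by
      let e := LinearEquiv.ofBijective (into f) hb
      let g : (Fin n → L) →ₗ[K] V' :=
        (e.symm.toLinearMap ∘ₗ (LinearMap.pi fun j => L.subtype ∘ₗ LinearMap.proj j)).codRestrict V' fun x => by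
          intro j _
          show into f (e.symm fun j => (x j : W)) j ∈ L
          rw [show into f (e.symm fun j => (x j : W)) = fun j => (x j : W) from e.apply_symm_apply _]
          exact (x j).2
      have := LinearMap.finrank_le_finrank_of_injective (f := g) (by
        intro a b hab
        have := e.symm.injective (congrArg Subtype.val hab)
        funext j; exact Subtype.ext (congrFun this j))
      rwa [finrank_pi_copy, hL, mul_one] at this
    have := h.2 V' L hsub (fun hc => by rw [hc.2, finrank_bot] at hL; omega)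
      (fun hc => by rw [hc.2, finrank_top] at hL; exact hne hL)
    rw [hL, mul_one, hV, mul_comm] at this
    have := Nat.lt_of_mul_lt_mul_right this
    omega
  · rintro ⟨hs, h1⟩
    have hb := (semistable_iff_into hW hV).1 hs
    refine ⟨hs.1, fun V' W' hsub h0 htop => ?_⟩
    rcases eq_bot_or_top_of_finrank_one h1 W' with rfl | rfl
    · refine absurd ⟨Submodule.eq_bot_iff _ |>.2 fun x hx => hb.1 ?_, rfl⟩ h0
      funext j
      simpa [into] using hsub j ⟨x, hx, rfl⟩
    · rw [finrank_top, h1, one_mul, mul_one]
      exact Submodule.finrank_lt fun hc => htop ⟨hc, rfl⟩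

omit [FiniteDimensional K V] [FiniteDimensional K W] in
theorem isSubrep_dualMap {V' : Submodule K V} {W' : Submodule K W} :
    KronMod.IsSubrep f V' W' → KronMod.IsSubrep (fun j => (f j).dualMap) W'.dualAnnihilator V'.dualAnnihilator := by
  rintro h j _ ⟨φ, hφ, rfl⟩
  rw [Submodule.mem_dualAnnihilator]
  intro x hx
  exact (Submodule.mem_dualAnnihilator _).1 hφ _ (h j ⟨x, hx, rfl⟩)

theorem isSubrep_of_dualMap {V' : Submodule K V} {W' : Submodule K W}
    (h : KronMod.IsSubrep (fun j => (f j).dualMap) W'.dualAnnihilator V'.dualAnnihilator) :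
    KronMod.IsSubrep f V' W' := by
  rintro j _ ⟨x, hx, rfl⟩
  rw [← Subspace.dualAnnihilator_dualCoannihilator_eq (W := W')]
  rw [Submodule.mem_dualCoannihilator]
  intro φ hφ
  exact (Submodule.mem_dualAnnihilator _).1 (h j ⟨φ, hφ, rfl⟩) x hx

omit [AddCommGroup W] [Module K W] [FiniteDimensional K W] in
theorem exists_eq_dualAnnihilator (P : Submodule K (Module.Dual K V)) :
    ∃ V' : Submodule K V, P = V'.dualAnnihilator :=
  ⟨P.dualCoannihilator, Subspace.dualCoannihilator_dualAnnihilator_eq.symm⟩

omit [AddCommGroup W] [Module K W] [FiniteDimensional K W] in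
theorem dualAnnihilator_eq_bot_iff (V' : Submodule K V) : V'.dualAnnihilator = ⊥ ↔ V' = ⊤ := by
  rw [← Submodule.dualAnnihilator_top (R := K) (M := V)]
  exact (Subspace.dualAnnihilator_inj).trans Iff.rfl

omit [AddCommGroup W] [Module K W] [FiniteDimensional K W] in
theorem dualAnnihilator_eq_top_iff (V' : Submodule K V) : V'.dualAnnihilator = ⊤ ↔ V' = ⊥ := by
  rw [← Submodule.dualAnnihilator_bot (R := K) (M := V)]
  exact (Subspace.dualAnnihilator_inj).trans Iff.rfl

theorem weight_dual (V' : Submodule K V) (W' : Submodule K W) :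
    (finrank K (Module.Dual K V) * finrank K W'.dualAnnihilator ≤
        finrank K (Module.Dual K W) * finrank K V'.dualAnnihilator ↔
      finrank K W * finrank K V' ≤ finrank K V * finrank K W') ∧
    (finrank K (Module.Dual K V) * finrank K W'.dualAnnihilator <
        finrank K (Module.Dual K W) * finrank K V'.dualAnnihilator ↔
      finrank K W * finrank K V' < finrank K V * finrank K W') := by
  have hv := Subspace.finrank_add_finrank_dualAnnihilator_eq V'
  have hw := Subspace.finrank_add_finrank_dualAnnihilator_eq W'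
  rw [Subspace.dual_finrank_eq, Subspace.dual_finrank_eq]
  generalize finrank K V'.dualAnnihilator = a at *
  generalize finrank K W'.dualAnnihilator = b at *
  rw [← hv, ← hw]
  simp only [add_mul, mul_add]
  constructor <;> constructor <;> intro h <;> linarith [mul_comm (finrank K V') (finrank K W'),
    mul_comm a b, mul_comm a (finrank K W'), mul_comm b (finrank K V')]

theorem isSemistable_dualMap :
    KronMod.IsSemistable f ↔ KronMod.IsSemistable (fun j => (f j).dualMap) := by
  rw [isSemistable_iff, isSemistable_iff]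
  refine and_congr (by rw [Subspace.dual_finrank_eq, Subspace.dual_finrank_eq, add_comm]) ⟨fun h P Q hs => ?_, fun h V' W' hs => ?_⟩
  · obtain ⟨W', rfl⟩ := exists_eq_dualAnnihilator P
    obtain ⟨V', rfl⟩ := exists_eq_dualAnnihilator Q
    exact (weight_dual V' W').1.2 (h V' W' (isSubrep_of_dualMap hs))
  · exact (weight_dual V' W').1.1 (h _ _ (isSubrep_dualMap hs))

theorem isStable_dualMap :
    KronMod.IsStable f ↔ KronMod.IsStable (fun j => (f j).dualMap) := by
  refine and_congr (by rw [Subspace.dual_finrank_eq, Subspace.dual_finrank_eq, add_comm]) ⟨fun h P Q hs h0 h1 => ?_, fun h V' W' hs h0 h1 => ?_⟩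
  · obtain ⟨W', rfl⟩ := exists_eq_dualAnnihilator P
    obtain ⟨V', rfl⟩ := exists_eq_dualAnnihilator Q
    rw [dualAnnihilator_eq_bot_iff, dualAnnihilator_eq_bot_iff, and_comm] at h0
    rw [dualAnnihilator_eq_top_iff, dualAnnihilator_eq_top_iff, and_comm] at h1
    exact (weight_dual V' W').2.2 (h V' W' (isSubrep_of_dualMap hs) h1 h0)
  · refine (weight_dual V' W').2.1 (h _ _ (isSubrep_dualMap hs) ?_ ?_)
    · rw [dualAnnihilator_eq_bot_iff, dualAnnihilator_eq_bot_iff, and_comm]; exact h1
    · rw [dualAnnihilator_eq_top_iff, dualAnnihilator_eq_top_iff, and_comm]; exact h0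

end Groth.Agent.Kron
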