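import Groth.Agent.Kron.Basic
import Mathlib.FieldTheory.IsAlgClosed.Basic
import Mathlib.LinearAlgebra.Matrix.ToLin
import Mathlib.LinearAlgebra.Matrix.ToLinearEquiv
import Mathlib.RingTheory.Polynomial.Basic
import Mathlib.Algebra.Polynomial.Roots
import Mathlib.LinearAlgebra.Eigenspace.Triangularizable

/-! Semistable Kronecker modules have invertible combinations in small cases. -/

namespace Groth.Agent.Kron

open Module Polynomial

variable {K : Type*} [Field K] {V W : Type*} [AddCommGroup V] [Module K V] [FiniteDimensional K V]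
  [AddCommGroup W] [Module K W] [FiniteDimensional K W]

theorem exists_bijective_two {n : ℕ} (f : Fin n → (V →ₗ[K] W)) (hV : finrank K V = 2) (hW : finrank K W = 2)
    (hf : KronMod.IsSemistable f) :
    ∃ z : Fin n → K, Function.Bijective ((∑ j, z j • f j : V →ₗ[K] W) : V → W) := by
  have hd : finrank K V = finrank K W := by omega
  by_contra hne
  push Not at hne
  have hsing : ∀ z : Fin n → K, ¬ Function.Injective ((∑ j, z j • f j : V →ₗ[K] W) : V → W) := fun z hz =>
    hne z ⟨hz, (LinearMap.injective_iff_surjective_of_finrank_eq_finrank hd).1 hz⟩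
  classical
  have hone : ∀ j, ¬ Function.Injective (f j) := fun j => by
    have := hsing (Pi.single j 1)
    rwa [Finset.sum_eq_single j (fun i _ hi => by rw [Pi.single_eq_of_ne hi, zero_smul]) (by simp),
      Pi.single_eq_same, one_smul] at this
  have htwo : ∀ i j, ¬ Function.Injective (f i + f j) := fun i j => by
    have := hsing (Pi.single i 1 + Pi.single j 1)
    simp only [Pi.add_apply, add_smul, Finset.sum_add_distrib] at this
    rwa [Finset.sum_eq_single i (fun l _ hl => by rw [Pi.single_eq_of_ne hl, zero_smul]) (by simp),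
      Finset.sum_eq_single j (fun l _ hl => by rw [Pi.single_eq_of_ne hl, zero_smul]) (by simp),
      Pi.single_eq_same, Pi.single_eq_same, one_smul, one_smul] at this
  have hker : ∀ j, f j ≠ 0 → finrank K (LinearMap.ker (f j)) = 1 ∧ finrank K (LinearMap.range (f j)) = 1 := by
    intro j hj
    have h := LinearMap.finrank_range_add_finrank_ker (f j)
    have h1 : finrank K (LinearMap.ker (f j)) ≠ 0 := fun hc =>
      hone j (LinearMap.ker_eq_bot.1 (Submodule.finrank_eq_zero.1 hc))
    have h2 : finrank K (LinearMap.range (f j)) ≠ 0 := fun hc =>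
      hj (LinearMap.range_eq_bot.1 (Submodule.finrank_eq_zero.1 hc))
    omega
  have hpair : ∀ i j, f i ≠ 0 → f j ≠ 0 → LinearMap.ker (f i) ≠ LinearMap.ker (f j) →
      LinearMap.range (f i) = LinearMap.range (f j) := by
    intro i j hi hj hk
    by_contra hr
    refine htwo i j ((injective_iff_map_eq_zero _).2 fun x hx => ?_)
    have hmem : f i x ∈ LinearMap.range (f i) ⊓ LinearMap.range (f j) :=
      ⟨⟨x, rfl⟩, ⟨-x, by rw [map_neg]; exact (eq_neg_of_add_eq_zero_left hx).symm⟩⟩
    have hinf : LinearMap.range (f i) ⊓ LinearMap.range (f j) = ⊥ := by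
      by_contra hb
      have hp : finrank K ↥(LinearMap.range (f i) ⊓ LinearMap.range (f j)) ≠ 0 := fun hc =>
        hb (Submodule.finrank_eq_zero.1 hc)
      have h1 := Submodule.finrank_mono (inf_le_left : LinearMap.range (f i) ⊓ LinearMap.range (f j) ≤ _)
      have h2 := Submodule.finrank_mono (inf_le_right : LinearMap.range (f i) ⊓ LinearMap.range (f j) ≤ _)
      rw [(hker i hi).2] at h1; rw [(hker j hj).2] at h2
      exact hr ((Submodule.eq_of_le_of_finrank_eq (inf_le_left (b := LinearMap.range (f j))) (by rw [(hker i hi).2]; omega)).symm.trans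
        (Submodule.eq_of_le_of_finrank_eq inf_le_right (by rw [(hker j hj).2]; omega)))
    rw [hinf, Submodule.mem_bot] at hmem
    have hxi : x ∈ LinearMap.ker (f i) := hmem
    have hxj : x ∈ LinearMap.ker (f j) := by
      rw [LinearMap.mem_ker]; simpa [hmem] using hx
    by_contra hx0
    refine hk ?_
    have e : ∀ l, f l ≠ 0 → x ∈ LinearMap.ker (f l) → LinearMap.ker (f l) = K ∙ x := fun l hl hxl =>
      (Submodule.eq_of_le_of_finrank_eq ((Submodule.span_singleton_le_iff_mem x _).2 hxl)
        (by rw [finrank_span_singleton hx0, (hker l hl).1])).symm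
    rw [e i hi hxi, e j hj hxj]
  obtain ⟨hpos, hs⟩ := isSemistable_iff.1 hf
  have hcommon : ∀ L : Submodule K V, finrank K L = 1 → ¬ ∀ j, L ≤ LinearMap.ker (f j) := by
    intro L hL hc
    have := hs L ⊥ fun j => by rintro _ ⟨x, hx, rfl⟩; exact (Submodule.mem_bot K).2 (hc j hx)
    rw [hL, finrank_bot] at this
    omega
  have hcommon' : ∀ L : Submodule K W, finrank K L ≤ 1 → ¬ ∀ j, LinearMap.range (f j) ≤ L := by
    intro L hL hc
    have := hs ⊤ L fun j => by rintro _ ⟨x, -, rfl⟩; exact hc j ⟨x, rfl⟩
    rw [finrank_top, hV, hW] at this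
    omega
  obtain ⟨i, hi⟩ : ∃ i, f i ≠ 0 := by
    by_contra h0; push Not at h0
    exact hcommon' ⊥ (by simp) fun j => by rw [h0 j]; simp
  obtain ⟨j, hj⟩ : ∃ j, ¬ LinearMap.ker (f i) ≤ LinearMap.ker (f j) := by
    by_contra h0; push Not at h0
    exact hcommon _ (hker i hi).1 h0
  have hj0 : f j ≠ 0 := fun hc => hj (by rw [hc, LinearMap.ker_zero]; exact le_top)
  have hij : LinearMap.ker (f i) ≠ LinearMap.ker (f j) := fun hc => hj hc.le
  refine hcommon' _ (hker i hi).2.le fun l => ?_
  rcases eq_or_ne (f l) 0 with hl | hl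
  · rw [hl]; simp
  by_cases hli : LinearMap.ker (f l) = LinearMap.ker (f i)
  · rw [hpair l j hl hj0 (hli ▸ hij), hpair i j hi hj0 hij]
  · rw [hpair l i hl hi hli]

theorem exists_bijective_pencil [Infinite K] (f : Fin 2 → (V →ₗ[K] W)) {k : ℕ}
    (hV : finrank K V = k) (hW : finrank K W = k) (hf : KronMod.IsSemistable f) :
    ∃ z : Fin 2 → K, Function.Bijective ((∑ j, z j • f j : V →ₗ[K] W) : V → W) := by
  classical
  obtain ⟨hpos, hs⟩ := isSemistable_iff.1 hf
  let bV := Module.finBasisOfFinrankEq K V hV
  let bW := Module.finBasisOfFinrankEq K W hW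
  let A := LinearMap.toMatrix bV bW (f 0)
  let B := LinearMap.toMatrix bV bW (f 1)
  let P : Matrix (Fin k) (Fin k) K[X] := A.map C + (X : K[X]) • B.map C
  by_cases hdet : P.det = 0
  · exfalso
    obtain ⟨v, hv0, hv⟩ := Matrix.exists_mulVec_eq_zero_iff.2 hdet
    let c : ℕ → Fin k → K := fun m i => (v i).coeff m
    have hex : ∃ m, c m ≠ 0 := by
      by_contra h0; push Not at h0
      exact hv0 (funext fun i => Polynomial.ext fun m => congrFun (h0 m) i)
    have hrel0 : A.mulVec (c 0) = 0 ∧ ∀ m, A.mulVec (c (m + 1)) + B.mulVec (c m) = 0 := by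
      have hcoeff : ∀ (M : Matrix (Fin k) (Fin k) K) (m : ℕ) (i : Fin k),
          ((M.map C).mulVec v i).coeff m = M.mulVec (c m) i := by
        intro M m i
        simp [Matrix.mulVec, dotProduct, Polynomial.finsetSum_coeff, c]
      refine ⟨funext fun i => ?_, fun m => funext fun i => ?_⟩
      · have := congrArg (fun p => Polynomial.coeff p 0) (congrFun hv i)
        simpa [P, Matrix.add_mulVec, Matrix.smul_mulVec, hcoeff] using this
      · have := congrArg (fun p => Polynomial.coeff p (m + 1)) (congrFun hv i)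
        simpa [P, Matrix.add_mulVec, Matrix.smul_mulVec, hcoeff] using this
    obtain ⟨hA0, hrel⟩ := hrel0
    let x : ℕ → V := fun m => bV.equivFun.symm (c m)
    have hconv : ∀ (g : V →ₗ[K] W) (m : ℕ), bW.equivFun (g (x m)) = (LinearMap.toMatrix bV bW g).mulVec (c m) := by
      intro g m
      have h8 := LinearMap.toMatrix_mulVec_repr bV bW g (x m)
      have h9 : (bV.repr (x m) : Fin k → K) = c m := bV.equivFun.apply_symm_apply (c m)
      rw [h9] at h8
      exact h8.symm
    have hzero : f 0 (x 0) = 0 := bW.equivFun.injective (by rw [hconv, map_zero]; exact hA0)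
    have hstep : ∀ m, f 0 (x (m + 1)) + f 1 (x m) = 0 := fun m => bW.equivFun.injective (by
      rw [map_add, hconv, hconv, map_zero]; exact hrel m)
    have hx : x (Nat.find hex) ≠ 0 := fun hc =>
      Nat.find_spec hex (bV.equivFun.symm.injective (hc.trans (map_zero _).symm))
    have hx' : f 0 (x (Nat.find hex)) = 0 := by
      rcases hm : Nat.find hex with _ | p
      · exact hzero
      · have hp : c p = 0 := by_contra fun hc => Nat.find_min hex (by omega : p < Nat.find hex) hc
        have := hstep p
        rwa [show x p = 0 by simp [x, hp], map_zero, add_zero] at this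
    let V' := Submodule.span K (Set.range x)
    let W' := V'.map (f 0)
    have hsub : KronMod.IsSubrep f V' W' := by
      refine Fin.forall_fin_two.2 ⟨le_rfl, ?_⟩
      rw [Submodule.map_span, Submodule.span_le]
      rintro _ ⟨_, ⟨m, rfl⟩, rfl⟩
      exact ⟨-x (m + 1), V'.neg_mem (Submodule.subset_span ⟨_, rfl⟩),
        by rw [map_neg]; exact (eq_neg_of_add_eq_zero_right (hstep m)).symm⟩
    have h1 := hs V' W' hsub
    rw [hV, hW] at h1
    have hk : 0 < k := by
      by_contra hk0
      have : k = 0 := by omega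
      subst this
      exact hv0 (funext fun i => i.elim0)
    have h2 := Nat.le_of_mul_le_mul_left h1 hk
    have h3 := LinearMap.finrank_range_add_finrank_ker ((f 0) ∘ₗ V'.subtype)
    rw [LinearMap.range_comp, Submodule.range_subtype] at h3
    have h4 : 0 < finrank K (LinearMap.ker ((f 0) ∘ₗ V'.subtype)) := by
      refine Module.finrank_pos_iff_exists_ne_zero.2 ⟨⟨⟨_, Submodule.subset_span ⟨Nat.find hex, rfl⟩⟩, ?_⟩, ?_⟩
      · simpa using hx'
      · intro hc; exact hx (by simpa using congrArg Subtype.val (congrArg Subtype.val hc))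
    change finrank K ↥(V'.map (f 0)) + _ = _ at h3
    change finrank K V' ≤ finrank K ↥(V'.map (f 0)) at h2
    omega
  · obtain ⟨t, ht⟩ : ∃ t : K, P.det.eval t ≠ 0 := by
      by_contra h0; push Not at h0
      exact hdet (Polynomial.funext fun t => by simp [h0 t])
    refine ⟨![1, t], ?_⟩
    have hsum : (∑ j, (![1, t] : Fin 2 → K) j • f j : V →ₗ[K] W) = f 0 + t • f 1 := by simp
    rw [hsum]
    have hd : (LinearMap.toMatrix bV bW (f 0 + t • f 1)).det ≠ 0 := by
      have h5 : (Polynomial.evalRingHom t).mapMatrix P = LinearMap.toMatrix bV bW (f 0 + t • f 1) := by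
        ext a b; simp [P, A, B, mul_comm t]
      rw [← h5, ← RingHom.map_det]; exact ht
    have hinj : Function.Injective (f 0 + t • f 1 : V →ₗ[K] W) := by
      refine (injective_iff_map_eq_zero _).2 fun y hy => ?_
      have h6 := LinearMap.toMatrix_mulVec_repr bV bW (f 0 + t • f 1) y
      rw [hy, map_zero] at h6
      have h7 := Matrix.eq_zero_of_mulVec_eq_zero hd (by rw [h6]; simp)
      exact bV.repr.injective (Finsupp.ext fun i => by simpa using congrFun h7 i)
    exact ⟨hinj, (LinearMap.injective_iff_surjective_of_finrank_eq_finrank (by omega)).1 hinj⟩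

theorem not_isStable_pencil [IsAlgClosed K] (f : Fin 2 → (V →ₗ[K] W)) {k : ℕ} (hk : 2 ≤ k)
    (hV : finrank K V = k) (hW : finrank K W = k) : ¬ KronMod.IsStable f := by
  intro h
  obtain ⟨z, hz⟩ := exists_bijective_pencil f hV hW (isSemistable_of_isStable h)
  let G := LinearEquiv.ofBijective (∑ j, z j • f j : V →ₗ[K] W) hz
  haveI : Nontrivial V := Module.nontrivial_of_finrank_pos (R := K) (by omega)
  obtain ⟨a, b, hab, hcomb⟩ : ∃ a b : Fin 2, (∀ j, j = a ∨ j = b) ∧ z a ≠ 0 := by
    by_cases h0 : z 0 = 0
    · refine ⟨1, 0, fun j => by fin_cases j <;> simp, fun h1 => ?_⟩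
      have : Subsingleton V := ⟨fun x y => hz.1 (by simp [h0, h1])⟩
      exact false_of_nontrivial_of_subsingleton V
    · exact ⟨0, 1, fun j => by fin_cases j <;> simp, h0⟩
  obtain ⟨l, hl⟩ := Module.End.exists_eigenvalue (G.symm.toLinearMap ∘ₗ f b)
  obtain ⟨v, hv⟩ := hl.exists_hasEigenvector
  have hb : f b v = l • G v := by
    have := congrArg G hv.apply_eq_smul
    simpa [map_smul] using this
  have hGv : z a • f a v = G v - ∑ j ∈ Finset.univ.erase a, z j • f j v := by
    rw [eq_sub_iff_add_eq, Finset.add_sum_erase _ (fun j => z j • f j v) (Finset.mem_univ a)]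
    simp [G, LinearEquiv.ofBijective_apply]
  have hsub : KronMod.IsSubrep f (K ∙ v) (K ∙ G v) := by
    intro j
    rw [Submodule.map_span, Set.image_singleton, Submodule.span_le, Set.singleton_subset_iff]
    have hbmem : f b v ∈ K ∙ G v := hb ▸ Submodule.smul_mem _ _ (Submodule.mem_span_singleton_self _)
    rcases hab j with rfl | rfl
    · have : f j v = (z j)⁻¹ • (G v - ∑ i ∈ Finset.univ.erase j, z i • f i v) := by
        rw [← hGv, smul_smul, inv_mul_cancel₀ hcomb, one_smul]
      rw [this]
      refine Submodule.smul_mem _ _ (Submodule.sub_mem _ (Submodule.mem_span_singleton_self _)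
        (Submodule.sum_mem _ fun i hi => ?_))
      rcases hab i with rfl | rfl
      · exact absurd rfl (Finset.ne_of_mem_erase hi)
      · exact Submodule.smul_mem _ _ hbmem
    · exact hbmem
  have h1 : finrank K (K ∙ v) = 1 := finrank_span_singleton hv.2
  have h2 : finrank K (K ∙ G v) = 1 := finrank_span_singleton fun hc => hv.2 (by simpa using hc)
  have := h.2 _ _ hsub (fun hc => by rw [hc.1, finrank_bot] at h1; omega)
    (fun hc => by rw [hc.1, finrank_top] at h1; omega)
  rw [h1, h2, hV, hW] at this
  omega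

end Groth.Agent.Kron
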